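import Groth.Prelude.Def_ModSt
import Groth.Prelude.Def_FibCat2
import Groth.Agent.FlatModBC.Basic
import Groth.Agent.ModDesc.Iso
import Groth.Agent.FibDepth.Global

/-!
# Families of modules form categories fibred in groupoids
-/

set_option autoImplicit false
set_option linter.style.haveILetI false
set_option backward.isDefEq.respectTransparency false

universe u

open CategoryTheory CategoryTheory.Limits AlgebraicGeometry

namespace Groth.Agent.ModStLib

variable {Y Z W : Scheme.{u}}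

/-- The adjunction unit is a cartesian comparison. -/
theorem isCart_unit (h : Y ⟶ Z) (N : Z.Modules) :
    ModSt.IsCart h ((Scheme.Modules.pullbackPushforwardAdjunction h).unit.app N) := by
  intro M'
  have heq : (fun v : (Scheme.Modules.pullback h).obj N ⟶ M' =>
      (Scheme.Modules.pullbackPushforwardAdjunction h).unit.app N ≫ (Scheme.Modules.pushforward h).map v) =
      ((Scheme.Modules.pullbackPushforwardAdjunction h).homEquiv N M') := by
    funext v
    rw [Adjunction.homEquiv_unit]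
  rw [heq]
  exact Equiv.bijective _

/-- The composite comparison map. -/
noncomputable def compC {h₁ : Y ⟶ Z} {h₂ : Z ⟶ W} {P : W.Modules} {N : Z.Modules} {M : Y.Modules}
    (c₁ : N ⟶ (Scheme.Modules.pushforward h₁).obj M) (c₂ : P ⟶ (Scheme.Modules.pushforward h₂).obj N) :
    P ⟶ (Scheme.Modules.pushforward (h₁ ≫ h₂)).obj M :=
  c₂ ≫ (Scheme.Modules.pushforward h₂).map c₁ ≫ (Scheme.Modules.pushforwardComp h₁ h₂).hom.app M

theorem compC_injective {h₁ : Y ⟶ Z} {h₂ : Z ⟶ W} {P : W.Modules} {N : Z.Modules} {M : Y.Modules}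
    {c₂ : P ⟶ (Scheme.Modules.pushforward h₂).obj N} (hc₂ : ModSt.IsCart h₂ c₂) :
    Function.Injective fun c₁ : N ⟶ (Scheme.Modules.pushforward h₁).obj M => compC c₁ c₂ := fun a b hab => by
  refine (hc₂ _).1 ?_
  have h' : (c₂ ≫ (Scheme.Modules.pushforward h₂).map a) ≫ (Scheme.Modules.pushforwardComp h₁ h₂).hom.app M =
      (c₂ ≫ (Scheme.Modules.pushforward h₂).map b) ≫ (Scheme.Modules.pushforwardComp h₁ h₂).hom.app M := by
    simpa only [compC, Category.assoc] using hab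
  exact (cancel_mono _).1 h'

theorem compC_surjective {h₁ : Y ⟶ Z} {h₂ : Z ⟶ W} {P : W.Modules} {N : Z.Modules} {M : Y.Modules}
    {c₂ : P ⟶ (Scheme.Modules.pushforward h₂).obj N} (hc₂ : ModSt.IsCart h₂ c₂)
    (c : P ⟶ (Scheme.Modules.pushforward (h₁ ≫ h₂)).obj M) : ∃ c₁, compC (h₁ := h₁) c₁ c₂ = c := by
  obtain ⟨a, ha⟩ := (hc₂ _).2 (c ≫ (Scheme.Modules.pushforwardComp h₁ h₂).inv.app M)
  refine ⟨a, ?_⟩
  have h' := ha =≫ (Scheme.Modules.pushforwardComp h₁ h₂).hom.app M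
  simpa [compC] using h'

/-- Cancellation of cartesian comparisons. -/
theorem isCart_of_compC {h₁ : Y ⟶ Z} {h₂ : Z ⟶ W} {P : W.Modules} {N : Z.Modules} {M : Y.Modules}
    {c₁ : N ⟶ (Scheme.Modules.pushforward h₁).obj M} {c₂ : P ⟶ (Scheme.Modules.pushforward h₂).obj N}
    (hc₂ : ModSt.IsCart h₂ c₂) (hc : ModSt.IsCart (h₁ ≫ h₂) (compC c₁ c₂)) : ModSt.IsCart h₁ c₁ := by
  intro M'
  have hnat : ∀ v : M ⟶ M', compC c₁ c₂ ≫ (Scheme.Modules.pushforward (h₁ ≫ h₂)).map v =
      compC (c₁ ≫ (Scheme.Modules.pushforward h₁).map v) c₂ := fun v => by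
    simp only [compC, Category.assoc, Functor.map_comp]
    rw [← (Scheme.Modules.pushforwardComp h₁ h₂).hom.naturality v]
    rfl
  refine ⟨fun v w hvw => (hc M').1 ?_, fun w => ?_⟩
  · show compC c₁ c₂ ≫ _ = compC c₁ c₂ ≫ _
    rw [hnat, hnat]
    exact congrArg (fun a => compC a c₂) hvw
  · obtain ⟨v, hv⟩ := (hc M').2 (compC w c₂)
    refine ⟨v, compC_injective hc₂ ?_⟩
    show compC _ c₂ = compC w c₂
    rw [← hnat]
    exact hv

variable {X S : Scheme.{u}} {f : X ⟶ S}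

theorem hom_eq_of_comp_eq {z y x : ModSt.Obj f} (φ : y ⟶ x) {χ χ' : z ⟶ y} (hb : χ.base = χ'.base)
    (h : χ ≫ φ = χ' ≫ φ) : χ = χ' := by
  have ht : χ.top = χ'.top := by
    refine φ.isPullback_top.hom_ext ?_ ?_
    · exact congrArg ModSt.Obj.Hom.top h
    · rw [χ.w_q, χ'.w_q, hb]
  obtain ⟨b, t, wp, wq, c, hc⟩ := χ
  obtain ⟨b', t', wp', wq', c', hc'⟩ := χ'
  cases hb
  cases ht
  have hcc : compC c φ.c = compC c' φ.c := eq_of_heq (ModSt.Obj.Hom.mk.injEq .. ▸ h).2.2
  cases compC_injective φ.cart hcc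
  rfl

theorem exists_factor {z y x : ModSt.Obj f} (φ : y ⟶ x) (g : z.base ⟶ y.base) (ψ : z ⟶ x)
    (hg : g ≫ φ.base = ψ.base) : ∃ χ : z ⟶ y, χ.base = g ∧ χ ≫ φ = ψ := by
  obtain ⟨b, T, wp, wq, c, hc⟩ := ψ
  obtain rfl : g ≫ φ.base = b := hg
  have hw : T ≫ x.q = (z.q ≫ g.left) ≫ φ.base.left := by rw [wq, Over.comp_left, Category.assoc]
  obtain ⟨t, ht, ht'⟩ : ∃ t : z.XT ⟶ y.XT, t ≫ φ.top = T ∧ t ≫ y.q = z.q ≫ g.left :=
    ⟨φ.isPullback_top.lift T (z.q ≫ g.left) hw, φ.isPullback_top.lift_fst _ _ _, φ.isPullback_top.lift_snd _ _ _⟩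
  subst ht
  obtain ⟨c₁, hc₁⟩ := compC_surjective (h₁ := t) φ.cart c
  subst hc₁
  refine ⟨⟨g, t, ?_, ht', c₁, isCart_of_compC φ.cart hc⟩, rfl, rfl⟩
  rw [← φ.w_p, ← Category.assoc, wp]

theorem exists_lift_obj (x : ModSt.Obj f) (hx : ModSt.IsCohObj x) {V : Over S} (g : V ⟶ x.base) :
    ∃ (y : ModSt.Obj f) (φ : y ⟶ x), ModSt.IsCohObj y ∧ ∃ h : y.base = V, eqToHom h.symm ≫ φ.base = g := by
  have hp : IsPullback (pullback.fst x.q g.left ≫ x.p) (pullback.snd x.q g.left) f V.hom := by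
    have := (IsPullback.of_hasPullback x.q g.left).paste_horiz x.isPullback
    rwa [Over.w] at this
  refine ⟨⟨V, pullback x.q g.left, pullback.fst x.q g.left ≫ x.p, pullback.snd x.q g.left, hp,
    (Scheme.Modules.pullback (pullback.fst x.q g.left)).obj x.E⟩,
    ⟨g, pullback.fst x.q g.left, rfl, pullback.condition, _, isCart_unit _ _⟩, ?_, rfl, Category.id_comp _⟩
  exact ⟨fun z => FlatModBC.isFlatOverAt_baseChange (IsPullback.of_hasPullback x.q g.left) x.E z (hx.1 _),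
    ModDesc.isFP_pullback _ (FibDepth.isQCoh_of_isFP hx.2) hx.2⟩

theorem isFibGrpd_coh (f : X ⟶ S) : FibCat.IsFibGrpd (ModSt.Coh f).p where
  exists_lift := fun {x V} g => by
    obtain ⟨y, φ, hy, hV, hφ⟩ := exists_lift_obj x.obj x.property g
    subst hV
    let y' : (ModSt.Coh f).obj := ⟨y, hy⟩
    let φ' : y' ⟶ x := ObjectProperty.homMk φ
    refine ⟨y', φ', ?_⟩
    have : (ModSt.Coh f).p.map φ' = g := by
      show φ.base = g
      rw [← hφ]; exact (Category.id_comp _).symm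
    subst this
    exact IsHomLift.map (ModSt.Coh f).p φ'
  isStronglyCartesian := fun {y x} φ =>
    { toIsHomLift := IsHomLift.map _ φ
      universal_property' := fun {z} g ψ hψ => by
        have hg : g ≫ φ.hom.base = ψ.hom.base := by
          have := IsHomLift.fac' (ModSt.Coh f).p (g ≫ (ModSt.Coh f).p.map φ) ψ
          simp at this
          exact this.symm
        obtain ⟨χ, hχb, hχ⟩ := exists_factor φ.hom g ψ.hom hg
        refine ⟨ObjectProperty.homMk χ, ⟨?_, ObjectProperty.hom_ext _ hχ⟩, fun χ' ⟨hl, hc⟩ => ?_⟩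
        · subst hχb
          exact IsHomLift.map (ModSt.Coh f).p (ObjectProperty.homMk χ)
        · refine ObjectProperty.hom_ext _ (hom_eq_of_comp_eq φ.hom ?_ ((congrArg (·.hom) hc).trans hχ.symm))
          have := IsHomLift.fac' (ModSt.Coh f).p g χ'
          show χ'.hom.base = χ.base
          rw [hχb]
          simp at this
          exact this }

end Groth.Agent.ModStLib
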